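import Cfsg.Agent.H58.Ore.BThree
import Cfsg.Agent.H903.TC.Large

/-!
# S4173, row `B`, piece B6: the 3-elements (helper328)

`Fi₂₃ ≤ B` contains a Sylow 3-subgroup of `B`: if every `l ≠ 1` of `Fi₂₃` is a commutator with an element of order 23
(`F23`), then so is every 3-element `≠ 1` of `B`; more generally every element conjugate into `Fi₂₃`.
-/

set_option autoImplicit false

namespace Cfsg.Agent.H328.TC.BThree

open Cfsg Cfsg.Agent.H903.TC

universe u v

/-- every nontrivial element of `Fi₂₃` is a commutator with an element of order 23 -/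
def F23 : Prop := ∀ l : Spor.Fi23, l ≠ 1 → CC 23 l

/-- images under injective homomorphisms -/
theorem CC.mapInj {G : Type u} [Group G] {H : Type v} [Group H] {r : ℕ} {g : G} (h : CC r g) (f : G →* H)
    (hf : Function.Injective f) : CC r (f g) := by
  obtain ⟨a, c, ha, e⟩ := h
  exact ⟨f a, f c, by rw [orderOf_injective f hf, ha], by rw [e]; simp only [map_mul, map_inv]⟩

/-- from the form with a fixed element -/
theorem cc_of_fixed {G : Type u} [Group G] {r : ℕ} {x g : G} (hx : orderOf x = r)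
    (h : ∃ u v : G, g = (u * x * u⁻¹) * (v * x⁻¹ * v⁻¹)) : CC r g := by
  obtain ⟨u, v, rfl⟩ := h
  refine ⟨u * x * u⁻¹, v * u⁻¹, ?_, by group⟩
  rw [show u * x * u⁻¹ = MulAut.conj u x from rfl, MulEquiv.orderOf_eq, hx]

/-- `F23` from the row of `Fi₂₃` with a fixed element -/
theorem f23_of {x : Spor.Fi23} (hx : orderOf x = 23)
    (h : ∀ g : Spor.Fi23, g ≠ 1 → ∃ u v : Spor.Fi23, g = (u * x * u⁻¹) * (v * x⁻¹ * v⁻¹)) : F23 :=
  fun l hl => cc_of_fixed hx (h l hl)

/-- **The 3-elements of the Baby Monster.** -/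
theorem three_B {L : Type u} [Group L] (h : Spor.IsoB L) (hF : F23) {s : L} {k : ℕ} (hs : s ^ 3 ^ k = 1) (hs1 : s ≠ 1) :
    CC 23 s := by
  obtain ⟨f, hf, h1⟩ := H58.Ore.BThree.conj_fi23 h
  obtain ⟨g, a, ha⟩ := h1 s k hs
  have ha1 : a ≠ 1 := by
    rintro rfl
    rw [map_one] at ha
    apply hs1
    calc s = g * (g⁻¹ * s * g) * g⁻¹ := by group
      _ = 1 := by rw [ha]; group
  refine CC.of_conj (x := g⁻¹) ?_
  rw [inv_inv, ha]
  exact CC.mapInj (hF a ha1) f hf

/-- Elements of order a power of three. -/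
theorem three_B' {L : Type u} [Group L] (h : Spor.IsoB L) (hF : F23) {s : L} (hs : ∃ k : ℕ, orderOf s = 3 ^ k)
    (hs1 : s ≠ 1) : CC 23 s := by
  obtain ⟨k, hk⟩ := hs
  exact three_B h hF (k := k) (by rw [← hk, pow_orderOf_eq_one]) hs1

/-- Elements commuting with the image of nothing: every element conjugate into the subgroup `Fi₂₃`. -/
theorem of_fi23 {L : Type u} [Group L] (hF : F23) {f : Spor.Fi23 →* L} (hf : Function.Injective f) {a : Spor.Fi23}
    (ha : a ≠ 1) {s g : L} (hs : g⁻¹ * s * g = f a) : CC 23 s := by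
  refine CC.of_conj (x := g⁻¹) ?_
  rw [inv_inv, hs]
  exact CC.mapInj (hF a ha) f hf

end Cfsg.Agent.H328.TC.BThree
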