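import Cfsg.Agent.H328.TC.BThree
import Cfsg.Agent.H293.PwF.TC

/-!
# The 3-elements of the Baby Monster, no hypothesis left (helper328)

`f23 : F23` (every non-identity element of `Fi₂₃` is a product of a conjugate of an element of order 23 and a
conjugate of its inverse: helper293's row) and `three_B_all : CC 23 s` for the 3-elements of the Baby Monster.
-/

set_option autoImplicit false

namespace Cfsg.Agent.H328.TC.BThree

open Cfsg Cfsg.Agent.H903.TC

universe u

/-- `Fi₂₃`: the row of the class of an element of order 23 and of its inverse. -/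
theorem f23 : F23 :=
  f23_of Cfsg.Agent.H293.PwF.orderOf_x0 fun l _ => Cfsg.Agent.H293.PwF.qx_all l

/-- **The 3-elements of the Baby Monster.** -/
theorem three_B_all {L : Type u} [Group L] (h : Spor.IsoB L) {s : L} {k : ℕ} (hs : s ^ 3 ^ k = 1) (hs1 : s ≠ 1) :
    CC 23 s := three_B h f23 hs hs1

end Cfsg.Agent.H328.TC.BThree
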